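import Groth.Agent.CurveMuLib.OnePoint
import Groth.Agent.S0659

/-!
# The first cohomology of `μ_n` on an open subset of a curve
-/

set_option autoImplicit false
set_option linter.style.haveILetI false
set_option linter.unusedSectionVars false
set_option backward.isDefEq.respectTransparency false
set_option backward.isDefEq.respectTransparency.types false
set_option maxHeartbeats 1000000

universe u

open CategoryTheory CategoryTheory.Limits AlgebraicGeometry Opposite TopologicalSpace CategoryTheory.Abelian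

noncomputable section

namespace CurveMuLib

theorem nonempty_prod_equiv {A : Type*} [AddCommGroup A] {n : ℕ} {N : ℕ} {G : Type*} [AddCommGroup G]
    (i : A →+ G) (π : G →+ ZMod n) (hi : Function.Injective i) (hπ : Function.Surjective π)
    (hex : π.ker = i.range) (hkill : ∀ x : G, n • x = 0) (e : A ≃+ (Fin N → ZMod n)) :
    Nonempty (G ≃+ (Fin (N + 1) → ZMod n)) := by
  obtain ⟨w, hw⟩ := hπ 1
  let s : ZMod n →+ G := ZMod.lift n ⟨zmultiplesHom G w, by
    show ((n : ℤ) • w) = 0
    rw [natCast_zsmul]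
    exact hkill w⟩
  have hs : ∀ z, π (s z) = z := fun z => by
    obtain ⟨m, rfl⟩ := ZMod.intCast_surjective z
    show π (ZMod.lift n _ (m : ZMod n)) = _
    rw [ZMod.lift_coe]
    show π (m • w) = _
    rw [map_zsmul, hw, zsmul_eq_mul, mul_one]
  have hπi : ∀ a, π (i a) = 0 := fun a => (AddSubgroup.ext_iff.1 hex (i a)).2 ⟨a, rfl⟩
  let c : ZMod n × A →+ G := s.coprod i
  have hc : Function.Bijective c := by
    refine ⟨(injective_iff_map_eq_zero _).2 ?_, fun x => ?_⟩
    · rintro ⟨z, a⟩ h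
      replace h : s z + i a = 0 := h
      have hz : z = 0 := by
        have h' := congrArg π h
        rwa [map_add, hs, hπi, add_zero, map_zero] at h'
      subst hz
      rw [map_zero, zero_add] at h
      rw [hi (h.trans (map_zero i).symm)]
      rfl
    · have hx : π (x - s (π x)) = 0 := by rw [map_sub, hs, sub_self]
      obtain ⟨a, ha⟩ := (AddSubgroup.ext_iff.1 hex _).1 hx
      exact ⟨(π x, a), show s (π x) + i a = x by rw [ha]; abel⟩
  exact ⟨(AddEquiv.ofBijective c hc).symm.trans ((AddEquiv.prodCongr (AddEquiv.refl _) e).trans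
    { Fin.consEquiv (fun _ : Fin (N + 1) => ZMod n) with
      map_add' := fun a b => funext fun j => by refine Fin.cases ?_ (fun j => ?_) j <;> simp [Fin.consEquiv] })⟩

variable (k : Type u) [Field k] [IsAlgClosed k] (X : Scheme.{u}) [X.Over (Spec (CommRingCat.of k))]
  [IsIntegral X] [IsProper (X ↘ Spec (CommRingCat.of k))] [Smooth (X ↘ Spec (CommRingCat.of k))]
  (hdim : topologicalKrullDim ↥X = 1)

theorem nsmul_H_eq_zero {Y : Scheme.{u}} {F : EtCoh.Ab Y} {n : ℕ} (e : F ≅ EtCoh.mu Y n) (q : ℕ)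
    (x : EtCoh.H Y F q) : n • x = 0 := by
  let β := ((EtCoh.HF Y q).mapIso e).addCommGroupIsoToAddEquiv
  apply β.injective
  rw [map_nsmul, map_zero, ← EtTransferLib.comp_mk₀_nsmul (β x) n,
    show (n • 𝟙 (EtCoh.mu Y n) : EtCoh.mu Y n ⟶ EtCoh.mu Y n) = 0 from EtKummerLib.nsmul_id_kernel (EtCoh.Gm Y) n,
    Ext.mk₀_zero, Ext.comp_zero]

include k hdim in
/-- The first cohomology of an open subset with `r + 1` points removed. -/
theorem nonempty_H1_open {n : ℕ} (hn : (n : k) ≠ 0) : ∀ (r : ℕ) (W : X.Opens), ((W : Set X)ᶜ).Finite →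
    Nat.card ↥((W : Set X)ᶜ) = r + 1 → Nonempty
      (EtCoh.H (W : Scheme.{u}) ((EtCoh.pull W.ι).obj (EtCoh.const X (ZMod n))) 1 ≃+
        (Fin (2 * Curv2.genus k X + r) → ZMod n)) := by
  have hn0 : 0 < n := Nat.pos_of_ne_zero fun e => hn (by rw [e, Nat.cast_zero])
  haveI : JacobsonSpace X := LocallyOfFiniteType.jacobsonSpace (X ↘ Spec (CommRingCat.of k))
  intro r
  induction r with
  | zero =>
    intro W hfin hcard
    rw [Nat.card_coe_set_eq, Set.ncard_eq_one] at hcard
    obtain ⟨p, hp⟩ := hcard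
    have hV : ∀ x, x ∈ W ↔ x ≠ p := fun x => by
      have := (Set.ext_iff.1 hp x)
      simp only [Set.mem_compl_iff, SetLike.mem_coe, Set.mem_singleton_iff] at this
      exact (not_iff_comm.1 this).symm
    have hcl : IsClosed ({p} : Set X) := hp ▸ W.2.isClosed_compl
    obtain ⟨eX⟩ := JacTorsLib.nonempty_H1_mu k X hdim n hn
    obtain ⟨cX⟩ := CurveH2Lib.mu_iso_const k (X ↘ Spec (CommRingCat.of k)) n hn
    exact ⟨((AddEquiv.ofBijective (EtCore.Hpull W.ι (EtCoh.const X (ZMod n)) 1)
      (bijective_Hpull_off k X hdim hcl W hV hn)).symm.trans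
        ((EtCoh.HF X 1).mapIso cX).addCommGroupIsoToAddEquiv.symm).trans eX.symm⟩
  | succ r ih =>
    intro W hfin hcard
    rw [Nat.card_coe_set_eq] at hcard
    have hclp : ∀ x ∈ ((W : Set X)ᶜ), IsClosed ({x} : Set X) := fun x hx =>
      CurvFieldLib.isClosed_singleton_of_mem_finite W.2.isClosed_compl hfin hx
    obtain ⟨p, hp⟩ : ((W : Set X)ᶜ).Nonempty := Set.nonempty_of_ncard_ne_zero (by omega)
    let T := (W : Set X)ᶜ \ {p}
    have hTf : T.Finite := hfin.subset Set.sdiff_subset
    have hT : IsClosed T := by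
      rw [← Set.biUnion_of_singleton T]
      exact hTf.isClosed_biUnion fun y hy => hclp y hy.1
    let U : X.Opens := ⟨Tᶜ, hT.isOpen_compl⟩
    let V : X.Opens := ⟨({p} : Set X)ᶜ, (hclp p hp).isOpen_compl⟩
    have hUc : ((U : Set X)ᶜ) = T := compl_compl T
    have hTcard : T.ncard = r + 1 := by
      rw [show T = (W : Set X)ᶜ \ {p} from rfl, Set.ncard_sdiff_singleton_of_mem hp]
      omega
    have hUV : U ⊔ V = ⊤ := by
      refine Opens.ext (Set.eq_univ_of_forall fun x => ?_)
      by_cases hx : x = p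
      · exact Or.inl fun h => h.2 hx
      · exact Or.inr hx
    have hinf : U ⊓ V = W := by
      refine Opens.ext (Set.ext fun x => ?_)
      show x ∈ Tᶜ ∩ ({p} : Set X)ᶜ ↔ x ∈ (W : Set X)
      constructor
      · rintro ⟨h1, h2⟩
        by_contra h
        exact h1 ⟨h, h2⟩
      · exact fun h => ⟨fun h' => h'.1 h, fun h' => hp (h' ▸ h)⟩
    rw [← hinf]
    let F := EtCoh.const X (ZMod n)
    obtain ⟨δ, -, hker, hd, hδ⟩ := Groth.Agent.S0659.result X U V hUV F
    have hV : ∀ x, x ∈ V ↔ x ≠ p := fun x => Iff.rfl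
    have hbV := bijective_Hpull_off k X hdim (hclp p hp) V hV hn
    obtain ⟨eU⟩ := ih U (hUc ▸ hTf) (by rw [Nat.card_coe_set_eq, hUc, hTcard])
    let rU := EtCore.Hpull U.ι F 1
    let rV := EtCore.Hpull V.ι F 1
    let dU := EtCore.HpullVia (X.homOfLE (inf_le_left : U ⊓ V ≤ U)) U.ι (U ⊓ V).ι (X.homOfLE_ι inf_le_left) F 1
    let dV := EtCore.HpullVia (X.homOfLE (inf_le_right : U ⊓ V ≤ V)) V.ι (U ⊓ V).ι (X.homOfLE_ι inf_le_right) F 1
    have hcomm : ∀ x, dU (rU x) = dV (rV x) := fun x =>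
      sub_eq_zero.1 ((AddSubgroup.ext_iff.1 (hd 1) (rU x, rV x)).2 ⟨x, rfl⟩)
    have hinj : Function.Injective dU := (injective_iff_map_eq_zero _).2 fun a ha => by
      obtain ⟨x, hx⟩ := (AddSubgroup.ext_iff.1 (hd 1) (a, 0)).1 (by
        show dU a - dV 0 = 0
        rw [ha, map_zero, sub_zero])
      have h1 : rU x = a := congrArg Prod.fst hx
      have h2 : rV x = 0 := congrArg Prod.snd hx
      rw [← h1, hbV.1 (h2.trans (map_zero rV).symm), map_zero]
    have hrange : (δ 1).ker = dU.range := by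
      rw [hδ 1]
      refine AddSubgroup.ext fun y => ⟨?_, ?_⟩
      · rintro ⟨⟨a, b⟩, rfl⟩
        obtain ⟨x, rfl⟩ := hbV.2 b
        refine ⟨a - rU x, ?_⟩
        show dU (a - rU x) = dU a - dV (rV x)
        rw [map_sub, hcomm]
      · rintro ⟨a, rfl⟩
        refine ⟨(a, 0), ?_⟩
        show dU a - dV 0 = dU a
        rw [map_zero, sub_zero]
    haveI : CompactSpace X := QuasiCompact.compactSpace_of_compactSpace (X ↘ Spec (CommRingCat.of k))
    have hneX : ∀ O : X.Opens, ((O : Set X)ᶜ).Finite → Nonempty (O : Scheme.{u}) := fun O hO => by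
      by_contra h
      haveI : Finite X := Set.finite_univ_iff.1 (hO.subset fun x _ hx => h ⟨⟨x, hx⟩⟩)
      exact CurveH2Lib.false_of_finite k X hdim
    have h2 : ∀ (O : X.Opens) (q : X), IsClosed ({q} : Set X) → q ∉ O → ((O : Set X)ᶜ).Finite →
        (∀ x ∉ O, IsClosed ({x} : Set X)) →
        Subsingleton (EtCoh.H (O : Scheme.{u}) ((EtCoh.pull O.ι).obj F) 2) := fun O q hq hqO hO hcl => by
      haveI := hneX O hO
      haveI : Subsingleton ((EtCoh.HF (O : Scheme.{u}) 2).obj (EtCoh.mu (O : Scheme.{u}) n)) :=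
        CurveH2Lib.subsingleton_H2_mu_open k X hdim O hq hqO hO hcl n hn
      obtain ⟨c⟩ := pull_const_iso_mu k X O hn
      exact ((EtCoh.HF _ 2).mapIso c).addCommGroupIsoToAddEquiv.toEquiv.subsingleton
    have hsurj : Function.Surjective (δ 1) := fun y => by
      obtain ⟨q, hq⟩ : T.Nonempty := Set.nonempty_of_ncard_ne_zero (by omega)
      haveI := h2 U q (hclp q hq.1) (fun h => h hq) (hUc ▸ hTf) fun x hx => hclp x (not_not.1 hx).1
      haveI := h2 V p (hclp p hp) (fun h => h rfl)
        ((Set.finite_singleton p).subset fun x hx => not_not.1 hx)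
        fun x hx => by rw [show x = p from not_not.1 hx]; exact hclp p hp
      have hy : y ∈ (δ 1).range := by
        rw [← hker 1, AddMonoidHom.mem_ker]
        exact Prod.ext (Subsingleton.elim _ _) (Subsingleton.elim _ _)
      exact hy
    obtain ⟨cX⟩ := CurveH2Lib.mu_iso_const k (X ↘ Spec (CommRingCat.of k)) n hn
    obtain ⟨e2⟩ := CurveH2Lib.nonempty_H2_mu k X hdim n hn
    let ε := ((EtCoh.HF X 2).mapIso cX).addCommGroupIsoToAddEquiv.symm.trans e2
    let π := ε.toAddMonoidHom.comp (δ 1)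
    obtain ⟨cW⟩ := pull_const_iso_mu k X (U ⊓ V) hn
    refine nonempty_prod_equiv dU π hinj (ε.surjective.comp hsurj) ?_ (fun x => nsmul_H_eq_zero cW 1 x) eU
    rw [← hrange]
    exact AddSubgroup.ext fun y => ε.map_eq_zero_iff

end CurveMuLib

end
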