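import Groth.Agent.CurveH2Lib.Open
import Groth.Agent.GenusZeroLib.Zeros
import Groth.Agent.EtTwoLib.BasisHom

/-!
# A trivialisation of a degree zero line bundle away from a point extends
-/

set_option autoImplicit false
set_option linter.style.haveILetI false
set_option linter.unusedSectionVars false
set_option backward.isDefEq.respectTransparency false
set_option backward.isDefEq.respectTransparency.types false
set_option maxHeartbeats 1000000

universe u

open CategoryTheory CategoryTheory.Limits AlgebraicGeometry TopologicalSpace Opposite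
open AmpleLib (GenAt GenOn res)
open DevissLib

noncomputable section

namespace CurveMuLib

variable (k : Type u) [Field k] (X : Scheme.{u}) [X.Over (Spec (CommRingCat.of k))]
  [IsIntegral X] [IsProper (X ↘ Spec (CommRingCat.of k))] (hdim : topologicalKrullDim ↥X = 1)

include k hdim in
/-- A map of line bundles of the same Euler characteristic, surjective away from a point, is surjective there. -/
theorem surjective_stalk_of_euler {N L : X.Modules} (hN : PicF.IsInvertible N) (hL : PicF.IsInvertible L)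
    {φ : N ⟶ L} (hφ : φ ≠ 0) {x : X} (hz : ∀ y, y ≠ x → Function.Surjective ((St y).map φ).hom)
    (he : Curv2.euler k X N = Curv2.euler k X L) : Function.Surjective ((St x).map φ).hom := by
  obtain ⟨hQ, hdQ⟩ := CurvLib.cokernel_data (k := k) hN hL hdim hφ
  obtain ⟨hT, hTc⟩ := CurvLib.finite_support_data k hQ hdQ
  haveI := CurvLib.finite_HH (k := k) hQ 0
  have h0 : CurvLib.stalkDim k (cokernel φ) x = 0 := by
    have h := GenusZeroLib.euler_eq_add_stalkDim (k := k) hdim hN hL hφ hz
    omega
  haveI : Subsingleton ((St x).obj (cokernel φ)) := by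
    letI := CurvLib.stalkModule (k := k) (cokernel φ) x
    haveI := CurvLib.finite_stalk (k := k) _ hT hTc subset_rfl x
    exact Module.finrank_zero_iff.1 h0
  let S : ShortComplex X.Modules := ShortComplex.mk φ (cokernel.π φ) (cokernel.condition φ)
  have hS : S.Exact := ShortComplex.exact_of_g_is_cokernel _ (cokernelIsCokernel φ)
  intro z
  exact (ShortComplex.moduleCat_exact_iff _).mp (hS.map (St x)) z (@Subsingleton.elim ((St x).obj (cokernel φ)) ‹_› _ _)

theorem res_injective {W V : X.Opens} (h : V ≤ W) (hV : (W : Set X).Nonempty → (V : Set X).Nonempty)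
    {a b : Γ(X, W)} (he : X.presheaf.map (homOfLE h).op a = X.presheaf.map (homOfLE h).op b) : a = b := by
  rcases (W : Set X).eq_empty_or_nonempty with hW | hW
  · refine TopCat.Presheaf.section_ext X.sheaf W a b fun z hz => ?_
    exact absurd hz ((Set.eq_empty_iff_forall_notMem.1 hW) z)
  · obtain ⟨z, hz⟩ := hV hW
    refine germ_injective_of_isIntegral X z (h hz) ?_
    have := congrArg (X.presheaf.germ V z hz) he
    rwa [TopCat.Presheaf.germ_res_apply, TopCat.Presheaf.germ_res_apply] at this

theorem germ_functionField {x : X} {W : X.Opens} (hx : x ∈ W) [Nonempty W] (r : Γ(X, W)) :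
    algebraMap (X.presheaf.stalk x) X.functionField (X.presheaf.germ W x hx r) = X.germToFunctionField W r :=
  TopCat.Presheaf.germ_stalkSpecializes_apply X.presheaf hx ((genericPoint_spec X).specializes trivial) r

include k hdim in
/-- A generator of a line bundle of degree zero away from a closed point extends to a generator. -/
theorem exists_gen_of_gen_off {M : X.Modules} (hM : PicF.IsInvertible M)
    (hdeg : Curv2.deg k X M 1 = 0) {p : X} [IsDiscreteValuationRing (X.presheaf.stalk p)] (V : X.Opens)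
    (hV : ∀ x, x ∈ V ↔ x ≠ p) (hVne : (V : Set X).Nonempty) (σ : Γ(M, V)) (hσ : GenOn M σ) :
    ∃ t : Γ(M, ⊤), res M le_top t = σ ∧ GenOn M t := by
  have he : Curv2.euler k X M = Curv2.euler k X (Coh.structureModule X) := by
    rw [Curv2.deg] at hdeg
    push_cast at hdeg
    linarith
  have hη : ∀ {W : X.Opens}, (W : Set X).Nonempty → genericPoint X ∈ W ⊓ V := fun {W} hW =>
    ⟨((genericPoint_spec X).mem_open_set_iff W.2).mpr (by simpa using hW),
      ((genericPoint_spec X).mem_open_set_iff V.2).mpr (by simpa using hVne)⟩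
  obtain ⟨D, e, hpD, heD⟩ := TwistLib.exists_genOn hM p
  haveI : Nonempty (D ⊓ V : X.Opens) := ⟨⟨_, hη ⟨p, hpD⟩⟩⟩
  obtain ⟨u, hu⟩ := (heD (D ⊓ V) inf_le_left).2 (res M inf_le_right σ)
  obtain ⟨u', hu'⟩ := (hσ (D ⊓ V) inf_le_right).2 (res M inf_le_left e)
  dsimp only at hu hu'
  have huu : u' * u = 1 := (heD (D ⊓ V) inf_le_left).1 (by
    dsimp only
    rw [one_smul, mul_smul, hu, hu'])
  let a := X.germToFunctionField (D ⊓ V) u
  have key : ∀ c : X.presheaf.stalk p, algebraMap (X.presheaf.stalk p) X.functionField c = a →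
      ∃ (D' : X.Opens) (_ : p ∈ D') (hD : D' ≤ D) (w : Γ(X, D')), X.presheaf.germ D' p ‹_› w = c ∧
        X.presheaf.map (homOfLE (inf_le_left : D' ⊓ V ≤ D')).op w =
          X.presheaf.map (homOfLE (inf_le_inf_right V hD)).op u := by
    intro c hc
    obtain ⟨W, hW, w₀, rfl⟩ := TopCat.Presheaf.exists_germ_eq (F := X.presheaf) c
    refine ⟨W ⊓ D, ⟨hW, hpD⟩, inf_le_right, X.presheaf.map (homOfLE inf_le_left).op w₀,
      TopCat.Presheaf.germ_res_apply _ _ _ _ _, ?_⟩
    have hm : genericPoint X ∈ W ⊓ D ⊓ V := hη ⟨p, hW, hpD⟩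
    haveI : Nonempty W := ⟨⟨p, hW⟩⟩
    refine germ_injective_of_isIntegral X _ hm ?_
    rw [TopCat.Presheaf.germ_res_apply, TopCat.Presheaf.germ_res_apply, TopCat.Presheaf.germ_res_apply]
    rw [germ_functionField] at hc
    exact hc
  obtain ⟨c, hc⟩ : ∃ c : X.presheaf.stalk p, algebraMap (X.presheaf.stalk p) X.functionField c = a := by
    rcases ValuationRing.isInteger_or_isInteger (X.presheaf.stalk p) a with ⟨c, hc⟩ | ⟨c, hc⟩
    · exact ⟨c, hc⟩
    have hau : X.germToFunctionField (D ⊓ V) u' * a = 1 := by rw [← map_mul, huu, map_one]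
    have hinv : a⁻¹ = X.germToFunctionField (D ⊓ V) u' := inv_eq_of_mul_eq_one_left hau
    rw [hinv] at hc
    obtain ⟨W, hW, w₀, rfl⟩ := TopCat.Presheaf.exists_germ_eq (F := X.presheaf) c
    let D' := W ⊓ D
    have hpD' : p ∈ D' := ⟨hW, hpD⟩
    let w : Γ(X, D') := X.presheaf.map (homOfLE inf_le_left).op w₀
    have hw : X.presheaf.map (homOfLE (inf_le_left : D' ⊓ V ≤ D')).op w =
        X.presheaf.map (homOfLE (inf_le_inf_right V (inf_le_right : D' ≤ D))).op u' := by
      have hm : genericPoint X ∈ D' ⊓ V := hη ⟨p, hpD'⟩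
      haveI : Nonempty W := ⟨⟨p, hW⟩⟩
      refine germ_injective_of_isIntegral X _ hm ?_
      simp only [w]
      rw [TopCat.Presheaf.germ_res_apply, TopCat.Presheaf.germ_res_apply, TopCat.Presheaf.germ_res_apply]
      rw [germ_functionField] at hc
      exact hc
    let P : ∀ (W : X.Opens), Γ(M, W) → Γ(X, W) → Prop := fun W m c =>
      X.presheaf.map (homOfLE (inf_le_left : W ⊓ V ≤ W)).op c • res M (inf_le_right : W ⊓ V ≤ V) σ =
        res M inf_le_left m
    have huniq : ∀ {W m c₁ c₂}, P W m c₁ → P W m c₂ → c₁ = c₂ := fun {W m c₁ c₂} h₁ h₂ =>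
      res_injective X inf_le_left (fun h => ⟨_, hη h⟩) ((hσ (W ⊓ V) inf_le_right).1 (h₁.trans h₂.symm))
    let ι' := {W : X.Opens // W ≤ V ∨ W ≤ D'}
    have hex : ∀ (i : ι') (m : Γ(M, i.1)), ∃ c, P i.1 m c := by
      rintro ⟨W, hW | hW⟩ m
      · obtain ⟨c, hc⟩ := (hσ W hW).2 m
        refine ⟨c, ?_⟩
        dsimp only at hc
        show _ = _
        rw [← hc, AmpleLib.res_smul, AmpleLib.res_res]
      · obtain ⟨r, hr⟩ := (heD W (hW.trans inf_le_right)).2 m
        refine ⟨r * X.presheaf.map (homOfLE hW).op w, ?_⟩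
        dsimp only at hr
        show _ = _
        have hle : W ⊓ V ≤ D ⊓ V := inf_le_inf_right V (hW.trans inf_le_right)
        have h1 : X.presheaf.map (homOfLE (inf_le_left : W ⊓ V ≤ W)).op (X.presheaf.map (homOfLE hW).op w) =
            X.presheaf.map (homOfLE hle).op u' := by
          have := congrArg (X.presheaf.map (homOfLE (inf_le_inf_right V hW)).op) hw
          exact (AmpleLib.res_res (Coh.structureModule X) _ _ w).trans
            ((AmpleLib.res_res (Coh.structureModule X) _ _ w).symm.trans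
              (this.trans (AmpleLib.res_res (Coh.structureModule X) _ _ u')))
        have h2 := congrArg (res M hle) hu'
        rw [AmpleLib.res_smul, AmpleLib.res_res, AmpleLib.res_res] at h2
        rw [map_mul, h1, mul_smul, h2, ← hr, AmpleLib.res_smul, AmpleLib.res_res]
    choose Φ hΦ using hex
    have hadd : ∀ i m m', Φ i (m + m') = Φ i m + Φ i m' := fun i m m' => huniq (hΦ i _) (by
      show _ = _
      rw [map_add, add_smul, hΦ i m, hΦ i m']
      exact (map_add _ _ _).symm)
    have hB : Opens.IsBasis (Set.range fun i : ι' => i.1) := by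
      refine Opens.isBasis_iff_nbhd.mpr fun {U x} hx => ?_
      by_cases hxp : x = p
      · exact ⟨U ⊓ D', ⟨⟨_, Or.inr inf_le_right⟩, rfl⟩, ⟨hx, hxp ▸ hpD'⟩, inf_le_left⟩
      · exact ⟨U ⊓ V, ⟨⟨_, Or.inl inf_le_right⟩, rfl⟩, ⟨hx, (hV x).2 hxp⟩, inf_le_left⟩
    obtain ⟨φ, hφ⟩ := EtTwoLib.exists_hom_of_basis (E := M) (P := Coh.structureModule X) (fun i : ι' => i.1) hB
      (fun i => AddMonoidHom.mk' (Φ i) (hadd i))
      (fun i j h m => by
        refine huniq ?_ (hΦ j _)
        show X.presheaf.map _ (X.presheaf.map (homOfLE h).op (Φ i m)) • _ = res M _ (res M h m)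
        have := congrArg (res M (inf_le_inf_right V h)) (hΦ i m)
        rw [AmpleLib.res_smul, AmpleLib.res_res, AmpleLib.res_res] at this
        simp only [← ConcreteCategory.comp_apply, ← Functor.map_comp, ← op_comp, homOfLE_comp,
          AmpleLib.res_res] at this ⊢
        exact this)
      (fun i r m => by
        refine huniq (hΦ i _) ?_
        show X.presheaf.map _ (r * Φ i m) • _ = res M _ (r • m)
        rw [map_mul, mul_smul, hΦ i m, AmpleLib.res_smul])
    have hφσ : φ.app V σ = (1 : Γ(X, V)) := (hφ ⟨V, Or.inl le_rfl⟩ σ).trans (huniq (hΦ _ _) (by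
      show _ = _
      rw [map_one, one_smul]))
    have hφe : φ.app D' (res M inf_le_right e) = w := (hφ ⟨D', Or.inr le_rfl⟩ _).trans (huniq (hΦ _ _) (by
      show _ = _
      have h2 := congrArg (res M (inf_le_inf_right V (inf_le_right : D' ≤ D))) hu'
      rw [AmpleLib.res_smul, AmpleLib.res_res, AmpleLib.res_res] at h2
      rw [hw, h2, AmpleLib.res_res]))
    have hVn : Nonempty V := hVne.to_subtype
    have hφ0 : φ ≠ 0 := fun h0 => by
      rw [h0] at hφσ
      exact zero_ne_one (show (0 : Γ(X, V)) = 1 from hφσ)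
    have hoff : ∀ y, y ≠ p → Function.Surjective ((St y).map φ).hom := fun y hy z => by
      have h1 := (AmpleLib.one_genOn (X := X) V).genAt ((hV y).2 hy)
      obtain ⟨b, rfl⟩ := h1.2 z
      refine ⟨b • M.presheaf.germ V y ((hV y).2 hy) σ, ?_⟩
      refine (((St y).map φ).hom.map_smul b _).trans ?_
      exact congrArg (b • ·) ((DerSch.stalkFunctor_map_germ y φ V _ σ).trans (congrArg _ hφσ))
    obtain ⟨z, hz⟩ := surjective_stalk_of_euler k X hdim hM CurvLib.isInvertible_structureModule hφ0 hoff he
      ((Coh.structureModule X).presheaf.germ D' p hpD' (1 : Γ(X, D')))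
    obtain ⟨b, rfl⟩ := ((heD.res (inf_le_right : D' ≤ D)).genAt hpD').2 z
    have h1 : b • X.presheaf.germ D' p hpD' w = 1 := by
      have h' := (((St p).map φ).hom.map_smul b _).symm.trans hz
      have hg1 := (AmpleLib.one_genOn (X := X) D').genAt hpD'
      refine hg1.1 ?_
      dsimp only
      rw [one_smul, smul_eq_mul, mul_smul]
      refine (congrArg (b • ·) ?_).trans h'
      refine Eq.trans ?_ ((DerSch.stalkFunctor_map_germ p φ D' hpD' _).trans (congrArg _ hφe)).symm
      refine (AmpleLib.germ_smul (Coh.structureModule X) w (1 : Γ(X, D')) hpD').symm.trans ?_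
      exact congrArg ((Coh.structureModule X).presheaf.germ D' p hpD') (mul_one w)
    refine ⟨b, ?_⟩
    have h2 : X.presheaf.germ D' p hpD' w = X.presheaf.germ W p hW w₀ := TopCat.Presheaf.germ_res_apply _ _ _ _ _
    rw [h2, smul_eq_mul] at h1
    have h3 := congrArg (algebraMap (X.presheaf.stalk p) X.functionField) h1
    rw [map_mul, map_one, hc, ← hinv] at h3
    exact eq_inv_of_mul_eq_one_left h3 |>.trans (inv_inv a)
  obtain ⟨D', hpD', hD, w, -, hwu⟩ := key c hc
  let cov : Bool → X.Opens := fun i => if i then V else D'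
  have hcov : ∀ x : X, x ∈ V ∨ x ∈ D' := fun x => (em (x = p)).symm.imp (hV x).2 fun h => by rw [h]; exact hpD'
  let s : ∀ i : Bool, Γ(M, cov i) := fun i => match i with
    | true => σ
    | false => w • res M hD e
  have hagree : res M (inf_le_left : D' ⊓ V ≤ D') (w • res M hD e) = res M (inf_le_right : D' ⊓ V ≤ V) σ := by
    have h2 := congrArg (res M (inf_le_inf_right V hD)) hu
    rw [AmpleLib.res_smul, AmpleLib.res_res, AmpleLib.res_res] at h2
    rw [AmpleLib.res_smul, AmpleLib.res_res, hwu]
    exact h2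
  obtain ⟨t, ht, -⟩ := TopCat.Sheaf.existsUnique_gluing' (Coh.toAb M) cov ⊤ (fun i => homOfLE le_top)
    (fun x _ => Opens.mem_iSup.2 ((hcov x).elim (fun h => ⟨true, h⟩) fun h => ⟨false, h⟩)) s (fun i j => by
      rcases i <;> rcases j
      · rfl
      · exact hagree
      · refine TwistLib.mod_ext M fun y hy => ?_
        have := congrArg (M.presheaf.germ (D' ⊓ V) y ⟨hy.2, hy.1⟩) hagree
        rw [TopCat.Presheaf.germ_res_apply, TopCat.Presheaf.germ_res_apply] at this
        exact ((TopCat.Presheaf.germ_res_apply _ _ _ _ _).trans this.symm).trans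
          (TopCat.Presheaf.germ_res_apply _ _ _ _ _).symm
      · rfl)
  have htV : res M le_top t = σ := ht true
  have htD : res M le_top t = w • res M hD e := ht false
  refine ⟨t, htV, TwistLib.genOn_of_genAt fun x hx => ?_⟩
  by_cases hxp : x ≠ p
  · exact (AmpleLib.genAt_res (le_top : V ≤ ⊤) t ((hV x).2 hxp)).1 (by rw [htV]; exact hσ.genAt _)
  obtain rfl : p = x := (not_not.1 hxp).symm
  have htne : QCohLib.unitHom M t ≠ 0 := fun h0 => by
    obtain ⟨y, hy⟩ := hVne
    have h1 := congrArg (fun f : Coh.structureModule X ⟶ M => f.app V (1 : Γ(X, V))) h0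
    dsimp only at h1
    rw [QCohLib.unitHom_app, one_smul] at h1
    replace h1 : σ = 0 := htV.symm.trans h1
    have h2 := (hσ.genAt hy).1 (a₁ := 1) (a₂ := 0) (by
      dsimp only
      rw [h1, map_zero, smul_zero, smul_zero])
    exact one_ne_zero h2
  have himg : ∀ y, ((St y).map (QCohLib.unitHom M t)).hom
      ((Coh.structureModule X).presheaf.germ ⊤ y trivial (1 : Γ(X, ⊤))) = M.presheaf.germ ⊤ y trivial t := fun y => by
    refine (DerSch.stalkFunctor_map_germ y (QCohLib.unitHom M t) ⊤ trivial _).trans ?_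
    rw [QCohLib.unitHom_app, one_smul]
    exact AmpleLib.germ_res M _ t _
  have hoff : ∀ y, y ≠ p → Function.Surjective ((St y).map (QCohLib.unitHom M t)).hom := fun y hy z => by
    have hg : GenAt M t (show y ∈ (⊤ : X.Opens) from trivial) :=
      (AmpleLib.genAt_res (le_top : V ≤ ⊤) t ((hV y).2 hy)).1 (by rw [htV]; exact hσ.genAt _)
    obtain ⟨b, rfl⟩ := hg.2 z
    exact ⟨b • (Coh.structureModule X).presheaf.germ ⊤ y trivial (1 : Γ(X, ⊤)),
      (((St y).map _).hom.map_smul b _).trans (congrArg (b • ·) (himg y))⟩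
  obtain ⟨z, hz⟩ := surjective_stalk_of_euler k X hdim CurvLib.isInvertible_structureModule hM htne hoff he.symm
    (M.presheaf.germ D' p hpD' (res M hD e))
  obtain ⟨b, rfl⟩ := ((AmpleLib.one_genOn (X := X) ⊤).genAt (x := p) trivial).2 z
  have h1 := (((St p).map (QCohLib.unitHom M t)).hom.map_smul b _).symm.trans hz
  replace h1 : b • M.presheaf.germ ⊤ p trivial t = M.presheaf.germ D' p hpD' (res M hD e) :=
    (congrArg (b • ·) (himg p).symm).trans h1
  have hg := (heD.res hD).genAt hpD'
  rw [← AmpleLib.genAt_res (le_top : D' ≤ ⊤) t hpD', htD, AmpleLib.genAt_smul_iff _ _ _ hg, X.mem_basicOpen w p hpD']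
  rw [← AmpleLib.germ_res M (le_top : D' ≤ ⊤) t hpD', htD, AmpleLib.germ_smul, smul_smul] at h1
  exact IsUnit.of_mul_eq_one_right b (hg.1 (h1.trans (one_smul _ _).symm))

end CurveMuLib

end
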