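import Groth.Agent.EtSliceLib.Hpull
import Groth.Agent.ConstUnitLib.Unit

/-!
# Injectivity of the pullback on the first cohomology when the unit is an isomorphism
-/

set_option autoImplicit false
set_option linter.style.haveILetI false
set_option linter.unusedSectionVars false
set_option backward.isDefEq.respectTransparency false
set_option backward.isDefEq.respectTransparency.types false
set_option maxHeartbeats 1000000

universe w u v v' u'

open CategoryTheory CategoryTheory.Limits CategoryTheory.Abelian AlgebraicGeometry Opposite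

noncomputable section

namespace CurveMuLib

variable {C : Type u} [Category.{v} C] [Abelian C] {D : Type u'} [Category.{v'} D] [Abelian D]
  {L : C ⥤ D} {R : D ⥤ C}

/-- A morphism lifts along an epimorphism when it does so after applying the left adjoint. -/
theorem exists_lift_of_lift_map (adj : L ⊣ R) [L.Additive] [PreservesFiniteLimits L] [PreservesFiniteColimits L]
    {S : ShortComplex C} (hS : S.ShortExact) [IsIso (adj.unit.app S.X₁)] {Z : C} (d : Z ⟶ S.X₃)
    (l : L.obj Z ⟶ L.obj S.X₂) (hl : l ≫ L.map S.g = L.map d) : ∃ s : Z ⟶ S.X₂, s ≫ S.g = d := by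
  haveI := hS.epi_g
  haveI := hS.mono_f
  let p₁ := pullback.fst S.g d
  let p₂ := pullback.snd S.g d
  let i : S.X₁ ⟶ pullback S.g d := pullback.lift S.f 0 (by rw [S.zero, zero_comp])
  have hi₂ : i ≫ p₂ = 0 := pullback.lift_snd _ _ _
  have hi₁ : i ≫ p₁ = S.f := pullback.lift_fst _ _ _
  let hker : IsLimit (KernelFork.ofι i hi₂) := by
    refine KernelFork.IsLimit.ofι i hi₂ (fun a ha => hS.exact.lift (a ≫ p₁) ?_) (fun a ha => ?_) (fun a ha b hb => ?_)
    · rw [Category.assoc, pullback.condition, ← Category.assoc, ha, zero_comp]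
    · refine pullback.hom_ext ?_ ?_
      · rw [Category.assoc, hi₁, hS.exact.lift_f]
      · rw [Category.assoc, hi₂, comp_zero]
        exact ha.symm
    · rw [← cancel_mono S.f, hS.exact.lift_f, ← hi₁, ← Category.assoc, hb]
  have hT := hS.map_of_exact L
  haveI := hT.mono_f
  have hk : (L.map p₁ - L.map p₂ ≫ l) ≫ L.map S.g = 0 := by
    rw [Preadditive.sub_comp, Category.assoc, hl, ← L.map_comp, ← L.map_comp, pullback.condition, sub_self]
  let r : L.obj (pullback S.g d) ⟶ L.obj S.X₁ := hT.exact.lift (L.map p₁ - L.map p₂ ≫ l) hk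
  have hr : r ≫ L.map S.f = L.map p₁ - L.map p₂ ≫ l := hT.exact.lift_f _ hk
  have hir : L.map i ≫ r = 𝟙 _ := by
    haveI : Mono (L.map S.f) := hT.mono_f
    rw [← cancel_mono (L.map S.f), Category.assoc, hr, Preadditive.comp_sub, ← L.map_comp, ← Category.assoc,
      ← L.map_comp, hi₁, hi₂, L.map_zero, zero_comp, sub_zero, Category.id_comp]
  let r' : pullback S.g d ⟶ S.X₁ := adj.unit.app _ ≫ R.map r ≫ inv (adj.unit.app S.X₁)
  have hir' : i ≫ r' = 𝟙 _ := by
    have h := adj.unit.naturality i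
    simp only [Functor.id_obj, Functor.id_map, Functor.comp_map] at h
    simp only [r']
    refine ((reassoc_of% h) (R.map r ≫ inv (adj.unit.app S.X₁))).trans ?_
    rw [← R.map_comp_assoc, hir, R.map_id, Category.id_comp, IsIso.hom_inv_id]
  let hcok := Abelian.epiIsCokernelOfKernel _ hker
  have hφ : i ≫ (p₁ - r' ≫ S.f) = 0 := by
    rw [Preadditive.comp_sub, hi₁, ← Category.assoc, hir', Category.id_comp, sub_self]
  refine ⟨hcok.desc (CokernelCofork.ofπ (p₁ - r' ≫ S.f) hφ), ?_⟩
  haveI : Epi p₂ := inferInstanceAs (Epi (pullback.snd S.g d))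
  rw [← cancel_epi p₂, ← Category.assoc]
  have h2 : p₂ ≫ hcok.desc (CokernelCofork.ofπ (p₁ - r' ≫ S.f) hφ) = p₁ - r' ≫ S.f :=
    hcok.fac (CokernelCofork.ofπ (p₁ - r' ≫ S.f) hφ) WalkingParallelPair.one
  rw [h2, Preadditive.sub_comp, Category.assoc, S.zero, comp_zero, sub_zero, pullback.condition]

/-- Pullback is injective on the first cohomology of a sheaf which is the direct image of its restriction. -/
theorem injective_Hpull_one {X Y : Scheme.{u}} (f : X ⟶ Y) (F : EtCoh.Ab Y)
    [IsIso ((EtCoh.pullPushAdj f).unit.app F)] : Function.Injective (EtCore.Hpull f F 1) := by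
  haveI : (EtCoh.pull f).Additive := (EtCoh.pullPushAdj f).left_adjoint_additive
  haveI : PreservesFiniteColimits (EtCoh.pull f) :=
    haveI : PreservesColimitsOfSize.{0, 0} (EtCoh.pull f) := (EtCoh.pullPushAdj f).leftAdjoint_preservesColimits
    PreservesColimitsOfSize.preservesFiniteColimits _
  rw [injective_iff_map_eq_zero]
  intro x hx
  let ip := (EnoughInjectives.presentation F).some
  let S := ShortComplex.mk ip.f (cokernel.π ip.f) (cokernel.condition _)
  have hS : S.ShortExact := { exact := ShortComplex.exact_of_g_is_cokernel _ (cokernelIsCokernel _) }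
  haveI : Injective S.X₂ := ip.injective
  haveI : IsIso ((EtCoh.pullPushAdj f).unit.app S.X₁) := ‹IsIso ((EtCoh.pullPushAdj f).unit.app F)›
  obtain ⟨d', rfl⟩ := Ext.covariant_sequence_exact₁ _ hS (n₁ := 0 + 1) x (Ext.eq_zero_of_injective _) (n₀ := 0) rfl
  obtain ⟨d, rfl⟩ := (Ext.mk₀_bijective _ _).2 d'
  have h0 : (Ext.mk₀ ((EtCoh.pull f).map d)).comp (hS.map_of_exact (EtCoh.pull f)).extClass (zero_add 1) = 0 := by
    have h1 : Ext.mapExactFunctor (EtCoh.pull f) ((Ext.mk₀ d).comp hS.extClass (zero_add 1)) = 0 := by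
      have h2 := congrArg (fun z => (Ext.mk₀ (EtCore.pullConst f ℤ).hom).comp z (zero_add 1)) hx
      simp only [Ext.comp_zero] at h2
      refine Eq.trans ?_ h2
      show _ = (Ext.mk₀ (EtCore.pullConst f ℤ).hom).comp ((Ext.mk₀ (EtCore.pullConst f ℤ).inv).comp
        (Ext.mapExactFunctor (EtCoh.pull f) ((Ext.mk₀ d).comp hS.extClass (zero_add 1))) (zero_add 1)) (zero_add 1)
      rw [Ext.mk₀_comp_mk₀_assoc, Iso.hom_inv_id, Ext.mk₀_id_comp]
    rw [Ext.mapExactFunctor_comp, Ext.mapExactFunctor_mk₀, Ext.mapExactFunctor_extClass] at h1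
    exact h1
  obtain ⟨w, hw⟩ := Ext.covariant_sequence_exact₃ _ (hS.map_of_exact (EtCoh.pull f)) _ (n₁ := 1) (zero_add 1) h0
  obtain ⟨l, rfl⟩ := (Ext.mk₀_bijective _ _).2 w
  rw [Ext.mk₀_comp_mk₀] at hw
  obtain ⟨s, hs⟩ := exists_lift_of_lift_map (EtCoh.pullPushAdj f) hS d l ((Ext.mk₀_bijective _ _).1 hw)
  rw [← hs, ← Ext.mk₀_comp_mk₀, Ext.comp_assoc_of_second_deg_zero, hS.comp_extClass, Ext.comp_zero]

end CurveMuLib

end
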