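import Groth.Agent.CurveMuLib.Inj
import Groth.Agent.CurveMuLib.Extend
import Groth.Agent.ParaFLib.Local
import Groth.Agent.HurwitzLib.SmoothCurve

/-!
# The first cohomology of a curve minus a point
-/

set_option autoImplicit false
set_option linter.style.haveILetI false
set_option linter.unusedSectionVars false
set_option backward.isDefEq.respectTransparency false
set_option backward.isDefEq.respectTransparency.types false
set_option maxHeartbeats 1000000

universe u

open CategoryTheory CategoryTheory.Limits AlgebraicGeometry Opposite TopologicalSpace CategoryTheory.Abelian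
open AmpleLib (GenAt GenOn res)

noncomputable section

namespace CurveMuLib

variable (k : Type u) [Field k] [IsAlgClosed k] (X : Scheme.{u}) [X.Over (Spec (CommRingCat.of k))]
  [IsIntegral X] [IsProper (X ↘ Spec (CommRingCat.of k))] [Smooth (X ↘ Spec (CommRingCat.of k))]
  (hdim : topologicalKrullDim ↥X = 1)

theorem deg_structure : Curv2.deg k X (Coh.structureModule X) 1 = 0 := by
  rw [Curv2.deg]
  push_cast
  ring

variable {X} in
/-- The constants. -/
def constHom : k →+* Γ(X, ⊤) :=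
  ((Scheme.ΓSpecIso (CommRingCat.of k)).inv ≫ (X ↘ Spec (CommRingCat.of k)).appTop).hom

theorem bijective_constHom : Function.Bijective (constHom k (X := X)) := by
  haveI : GeometricallyIntegral (X ↘ Spec (CommRingCat.of k)) :=
    CurveBCLib.geometricallyIntegral_of_sepClosed (k := k) (X := X)
  haveI : GeometricallyConnected (X ↘ Spec (CommRingCat.of k)) :=
    Groth.Agent.WeilRes.geometricallyConnected_of_geometricallyIrreducible _
  exact (H0Lib.bijective_app_of_geometrically (X ↘ Spec (CommRingCat.of k)) ⊤).comp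
    (ConcreteCategory.bijective_of_isIso (Scheme.ΓSpecIso (CommRingCat.of k)).inv)

variable {p : X} (hp : IsClosed ({p} : Set X)) (V : X.Opens) (hV : ∀ x, x ∈ V ↔ x ≠ p)

include k hdim hV in
theorem nonempty_off : (V : Set X).Nonempty := by
  by_contra h
  haveI : Subsingleton ↥X := ⟨fun a b => by
    have : ∀ x : X, x = p := fun x => not_not.1 fun hx => h ⟨x, (hV x).2 hx⟩
    rw [this a, this b]⟩
  exact CurveH2Lib.false_of_finite k X hdim

include k hdim hp hV in
/-- Units away from a point have roots. -/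
theorem exists_root_unit {n : ℕ} (hn : 0 < n) (v : (Γ(↑V, ⊤))ˣ) : ∃ w : (Γ(↑V, ⊤))ˣ, w ^ n = v := by
  haveI := HurwitzLib.dvr_stalk_closed (k := k) hdim hp
  let φ : Γ(↑V, ⊤) →+* Γ(X, V) := V.topIso.hom.hom
  have hφ : Function.Bijective φ := ConcreteCategory.bijective_of_isIso V.topIso.hom
  let a : Γ(X, V) := φ v
  have ha : IsUnit a := v.isUnit.map φ
  have hσ : GenOn (Coh.structureModule X) (W := V) a := fun W hW => by
    have hu : IsUnit (X.presheaf.map (homOfLE hW).op a) := ha.map (X.presheaf.map (homOfLE hW).op).hom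
    exact hu.unit.mulRight.bijective
  obtain ⟨t, ht, -⟩ := exists_gen_of_gen_off k X hdim CurvLib.isInvertible_structureModule (deg_structure k X) V hV
    (nonempty_off k X hdim V hV) a hσ
  obtain ⟨r, rfl⟩ := (bijective_constHom k X).2 t
  obtain ⟨s, hs⟩ := IsAlgClosed.exists_pow_nat_eq r hn
  let g : k →+* Γ(↑V, ⊤) := ((V.topIso.inv.hom).comp (X.presheaf.map (homOfLE (le_top : V ≤ ⊤)).op).hom).comp (constHom k)
  have hg : g r = v := hφ.1 ((congrArg (fun z => φ z) rfl).trans ((Iso.inv_hom_id_apply V.topIso _).trans ht))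
  have hu : IsUnit (g s) := (isUnit_pow_iff hn.ne').1 (by rw [← map_pow, hs, hg]; exact v.isUnit)
  exact ⟨hu.unit, Units.ext (by rw [Units.val_pow_eq_pow_val, IsUnit.unit_spec, ← map_pow, hs, hg])⟩

include k hdim hp hV in
/-- A degree zero class trivial away from a point is trivial. -/
theorem eq_one_of_restrict [PicGrp.Law X] [PicGrp.Law (V : Scheme.{u})] (a : PicLoc.PicSet X)
    (ha : CurveH2Lib.degCl k X a = 0) (hr : PicGrp.pullHom V.ι (VertChiLib.pullMul V.ι) a = 1) : a = 1 := by
  haveI := HurwitzLib.dvr_stalk_closed (k := k) hdim hp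
  obtain ⟨L, hL, rfl⟩ := PicGrp.exists_eq_cls a
  rw [CurveH2Lib.degCl_cls k X hL] at ha
  rw [← map_one (PicGrp.pullHom V.ι (VertChiLib.pullMul V.ι)), ← PicGrp.cls_structureModule_eq_one] at hr
  rw [PicGrp.pullHom_cls, PicGrp.pullHom_cls, PicGrp.cls_eq_cls_iff] at hr
  obtain ⟨e⟩ := hr
  let e' : L.restrict V.ι ≅ Coh.structureModule (V : Scheme.{u}) :=
    (Scheme.Modules.restrictFunctorIsoPullback V.ι).app L ≪≫ e ≪≫
      ((Scheme.Modules.restrictFunctorIsoPullback V.ι).app _).symm ≪≫ Scheme.Modules.restrictUnitIso V.ι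
  obtain ⟨σ, hσ⟩ := ParaFLib.exists_genOn_of_iso e'
  obtain ⟨t, -, ht⟩ := exists_gen_of_gen_off k X hdim hL ha V hV (nonempty_off k X hdim V hV) σ hσ
  haveI := AmpleLib.isIso_unitHom t ht
  rw [← PicGrp.cls_structureModule_eq_one]
  exact (PicGrp.cls_eq_cls_iff _ _).2 ⟨(asIso (QCohLib.unitHom L t)).symm⟩

include k hdim hp hV in
/-- Torsion classes away from a point come from torsion classes. -/
theorem exists_torsion_lift [PicGrp.Law X] [PicGrp.Law (V : Scheme.{u})] {n : ℕ} (hn : 0 < n)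
    (b : PicLoc.PicSet (V : Scheme.{u})) (hb : b ^ n = 1) :
    ∃ a : PicLoc.PicSet X, a ^ n = 1 ∧ PicGrp.pullHom V.ι (VertChiLib.pullMul V.ι) a = b := by
  haveI : IsLocallyNoetherian X := LocallyOfFiniteType.isLocallyNoetherian (X ↘ Spec (CommRingCat.of k))
  obtain ⟨M, hM, rfl⟩ := PicGrp.exists_eq_cls b
  obtain ⟨L, hL, ⟨e⟩⟩ := Groth.Agent.S0234.result X V M hM fun x hx => by
    obtain rfl : x = p := not_not.1 fun h => hx ((hV x).2 h)
    haveI := HurwitzLib.dvr_stalk_closed (k := k) hdim hp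
    infer_instance
  obtain ⟨P, hP, hPd, ⟨eP⟩⟩ := CurveH2Lib.exists_point_class k X hdim hp V fun h => (hV p).1 h rfl
  let r := PicGrp.pullHom V.ι (VertChiLib.pullMul V.ι)
  have hrL : r (PicGrp.cls L hL) = PicGrp.cls M hM :=
    Subtype.ext (Quot.sound ⟨((Scheme.Modules.restrictFunctorIsoPullback V.ι).app L).symm ≪≫ e⟩)
  have hrP : r (PicGrp.cls P hP) = 1 := by
    rw [← map_one r, ← PicGrp.cls_structureModule_eq_one]
    exact Subtype.ext (Quot.sound ⟨((Scheme.Modules.restrictFunctorIsoPullback V.ι).app P).symm ≪≫ eP ≪≫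
      (Scheme.Modules.restrictFunctorIsoPullback V.ι).app _⟩)
  let d : Additive (PicLoc.PicSet X) →+ ℤ :=
    AddMonoidHom.mk' (fun a => CurveH2Lib.degCl k X a.toMul) fun a b => CurveH2Lib.degCl_mul k X hdim a.toMul b.toMul
  let l : Additive (PicLoc.PicSet X) := Additive.ofMul (PicGrp.cls L hL)
  let q : Additive (PicLoc.PicSet X) := Additive.ofMul (PicGrp.cls P hP)
  have hq : d q = -1 := (CurveH2Lib.degCl_cls k X hP).trans hPd
  let a := (l + d l • q).toMul
  have h0 : d (Additive.ofMul a) = 0 := by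
    show d (l + d l • q) = 0
    rw [map_add, map_zsmul, hq, smul_eq_mul, mul_neg, mul_one, add_neg_cancel]
  have hra : r a = PicGrp.cls M hM := by
    simp only [a]
    rw [toMul_add, toMul_zsmul, map_mul, map_zpow]
    show r (PicGrp.cls L hL) * r (PicGrp.cls P hP) ^ _ = _
    rw [hrL, hrP, one_zpow, mul_one]
  refine ⟨a, eq_one_of_restrict k X hdim hp V hV (a ^ n) ?_ ?_, hra⟩
  · show d (Additive.ofMul (a ^ n)) = 0
    rw [ofMul_pow, map_nsmul, h0, nsmul_zero]
  · rw [map_pow]
    show r a ^ n = 1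
    rw [hra, hb]

include k hdim in
theorem isIso_unit_open (V : X.Opens) (hne : (V : Set X).Nonempty) (M : Type) [AddCommGroup M] :
    IsIso ((EtCoh.pullPushAdj V.ι).unit.app (EtCoh.const X M)) :=
  ConstUnitLib.isIso_unit_const V.ι (ConstUnitLib.denseRange_fst (ConstUnitLib.denseRange_open V hne))
    (ConstUnitLib.locExt_open_integral (HurwitzLib.isNormalScheme_of_smooth (k := k)) V hne) _

include k in
theorem pull_const_iso_mu (V : X.Opens) {n : ℕ} (hn : (n : k) ≠ 0) :
    Nonempty ((EtCoh.pull V.ι).obj (EtCoh.const X (ZMod n)) ≅ EtCoh.mu (V : Scheme.{u}) n) := by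
  obtain ⟨e⟩ := CurveH2Lib.mu_iso_const k (V.ι ≫ (X ↘ Spec (CommRingCat.of k))) n hn
  exact ⟨EtCore.pullConst V.ι (ZMod n) ≪≫ e.symm⟩

include k hdim hp hV in
/-- Restriction to the complement of a point is bijective on `H¹` with constant coefficients. -/
theorem bijective_Hpull_off {n : ℕ} (hn : (n : k) ≠ 0) :
    Function.Bijective (EtCore.Hpull V.ι (EtCoh.const X (ZMod n)) 1) := by
  have hne := nonempty_off k X hdim V hV
  haveI := isIso_unit_open k X hdim V hne (ZMod n)
  have hn0 : 0 < n := Nat.pos_of_ne_zero fun e => hn (by rw [e, Nat.cast_zero])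
  haveI : NeZero n := ⟨hn0.ne'⟩
  haveI : IsLocallyNoetherian X := LocallyOfFiniteType.isLocallyNoetherian (X ↘ Spec (CommRingCat.of k))
  haveI : CompactSpace X := QuasiCompact.compactSpace_of_compactSpace (X ↘ Spec (CommRingCat.of k))
  haveI : IsNoetherian X := ⟨⟩
  haveI : CompactSpace (V : Scheme.{u}) := isCompact_iff_compactSpace.1 (NoetherianSpace.isCompact _)
  letI := LMLib.law X
  letI := LMLib.law (V : Scheme.{u})
  obtain ⟨φ, hφi, hφ⟩ := JacTorsLib.exists_torsion_hom k X hdim n hn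
  obtain ⟨eV⟩ := Groth.Agent.S15401.result (V : Scheme.{u})
  obtain ⟨cV⟩ := pull_const_iso_mu k X V hn
  obtain ⟨cX⟩ := CurveH2Lib.mu_iso_const k (X ↘ Spec (CommRingCat.of k)) n hn
  obtain ⟨eX⟩ := JacTorsLib.nonempty_H1_mu k X hdim n hn
  have hinv := JacTorsLib.invertibleOn_of_field (V.ι ≫ (X ↘ Spec (CommRingCat.of k))) hn
  let toGm := ((EtCoh.HF (V : Scheme.{u}) 1).map (EtCoh.muι (V : Scheme.{u}) n)).hom
  have htoGm : Function.Injective toGm :=
    JacTorsLib.injective_muι (V : Scheme.{u}) n hinv fun v => exists_root_unit k X hdim hp V hV hn0 v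
  let r := EtCore.Hpull V.ι (EtCoh.const X (ZMod n)) 1
  have hr : Function.Injective r := injective_Hpull_one V.ι _
  let α := ((EtCoh.HF X 1).mapIso cX).addCommGroupIsoToAddEquiv
  let β := ((EtCoh.HF (V : Scheme.{u}) 1).mapIso cV).addCommGroupIsoToAddEquiv
  let ψ : (Fin (2 * Curv2.genus k X) → ZMod n) → EtCoh.H (V : Scheme.{u}) (EtCoh.Gm (V : Scheme.{u})) 1 := fun v =>
    eV (Additive.ofMul (PicGrp.pullHom V.ι (VertChiLib.pullMul V.ι) (φ (Multiplicative.ofAdd v))))
  let s : (Fin (2 * Curv2.genus k X) → ZMod n) → EtCoh.H (V : Scheme.{u}) (EtCoh.Gm (V : Scheme.{u})) 1 := fun v =>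
    toGm (β (r (α (eX v))))
  have hs : Function.Injective s :=
    htoGm.comp (β.injective.comp (hr.comp (α.injective.comp eX.injective)))
  have hsub : Set.range toGm ⊆ Set.range ψ := fun ξ hξ => by
    have h1 : n • ξ = 0 := (Set.ext_iff.1 (Groth.Agent.S3244.result (V : Scheme.{u}) n hn0 hinv 1 le_rfl) ξ).1 hξ
    obtain ⟨a, ha, hra⟩ := exists_torsion_lift k X hdim hp V hV hn0 (eV.symm ξ).toMul (by
      rw [← toMul_nsmul, ← map_nsmul, h1, map_zero, toMul_zero])
    obtain ⟨v, rfl⟩ := (hφ a).2 ha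
    refine ⟨v.toAdd, ?_⟩
    show eV _ = ξ
    rw [ofAdd_toAdd, hra]
    exact eV.apply_symm_apply ξ
  choose g hg using fun v => hsub (Set.mem_range_self (β (r (α (eX v)))))
  have hgi : Function.Injective g := fun a b h => hs (by
    show toGm _ = toGm _
    rw [← hg, ← hg, h])
  refine ⟨hr, fun z => ?_⟩
  obtain ⟨w, hw⟩ := hsub (Set.mem_range_self (β z))
  obtain ⟨v, rfl⟩ := (Finite.injective_iff_surjective.1 hgi) w
  exact ⟨α (eX v), β.injective (htoGm ((hg v).symm.trans hw))⟩

end CurveMuLib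

end
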